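import Cfsg.Agent.Lib.H17.ExtCoreE
import Cfsg.Agent.Lib.H17.Fi23Syl.RelC
import Cfsg.Agent.Lib.H17.Fi23Syl.Cent

set_option autoImplicit false
set_option maxRecDepth 100000

/-! # An extension of M23 in Fi23: the labels of 23 commuting transpositions (generated) -/

namespace Cfsg.Agent.Lib.H17.Fi23Ext

open Cfsg Cfsg.Spor Cfsg.Agent.Lib.H17.CosetCert Cfsg.Agent.Lib.H17.CoxGlue Cfsg.Agent.Lib.H17.Fi23Glue
  Cfsg.Agent.Lib.H17.Fi23Fi22 Cfsg.Agent.Lib.H17.Sgs Cfsg.Agent.Lib.H17.Sift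
  Cfsg.Agent.Lib.H17.PermActs Cfsg.Agent.Lib.H17.Pc2 Cfsg.Agent.Lib.H17.LocalActs
  Cfsg.Agent.Lib.H17.Fi23Out Cfsg.Agent.Lib.H17.Fi23Syl Cfsg.Agent.Lib.H17.ExtCore
  Cfsg.Agent.Lib.H28 Cfsg.Agent.Lib.H27 Cfsg.Agent.Lib.H27.OutM

attribute [local instance] finite_G

/-- the 23 labelled points -/
def betaL : List ℕ := [0, 5082, 52, 8005, 2986, 217, 6789, 190, 10038, 196, 14202, 1780, 106, 5086, 1611, 6787, 5024, 6791, 6796, 8001, 2942, 1746, 174]

/-- the labelled points -/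
def β (x : ℕ) : ℕ := betaL.getD x 0

/-- the digits of the labelled elements -/
def cxL : List ℕ := [1, 882, 2, 2047, 512, 63, 1446, 16, 1372, 32, 1690, 256, 4, 748, 64, 1024, 917, 1265, 1833, 1607, 459, 128, 8]

/-- the digits of the labelled elements -/
def cx (x : ℕ) : ℕ := cxL.getD x 0

theorem hβ : ∀ x < 23, β x < 31671 := by decide

theorem hβinj : ∀ x < 23, ∀ y < 23, β x = β y → x = y := by decide

theorem eW_reverse (u : List ℕ) : eW gens u.reverse = (eW gens u)⁻¹ := by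
  unfold eW
  rw [List.map_reverse]
  exact prod_reverse_of_invol gens gens_mul_self u

theorem beq_self' (x : ℕ) : Nat.beq x x = true := by simp

theorem beq_ne' {x y : ℕ} (h : x ≠ y) : Nat.beq x y = false := by
  cases hc : Nat.beq x y
  · rfl
  · exact absurd (Nat.eq_of_beq_eq_true hc) h

theorem gl2_inj : ∀ u < 2 ^ gl2.length, ∀ v < 2 ^ gl2.length, nf2 gl2 u = nf2 gl2 v → u = v := by
  apply nf2_inj_of_ne_one gl2 sqC commC
  intro w hw hw0
  rw [gl2_length] at hw
  have hx := lacts_nf2 hP gl2 As2 hL2 w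
  have h := allLt_sound _ _ mv_chk w (by simpa using hw)
  rw [beq_ne' hw0, cond_false] at h
  intro hone
  rw [hone] at hx
  have h1 : ∀ k < 535, applyBits As2 w k = k := LActs.unique hPinj hx LActs.one
  rw [h1 1 (by norm_num), h1 16 (by norm_num), h1 2 (by norm_num), beq_self', beq_self', beq_self'] at h
  exact absurd h (by simp)

theorem fix_chk : allLt (fun i => allLt (fun x =>
    Nat.beq (applyT 15 32768 ((wl2.getD i []).reverse.map tabf) (β x)) (β x)) 23) 11 = true := by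
  decide +kernel

theorem hfix : ∀ a ∈ gl2, ∀ x < 23, pt φ a (β x) = β x := by
  intro a ha x hx
  obtain ⟨i, hi, rfl⟩ := mem_map_eW ha
  rw [(acts_eW 15 32768 gens tabf acts_gens _).pt _ (hβ x hx)]
  exact Nat.eq_of_beq_eq_true (allLt_sound _ _ (allLt_sound _ _ fix_chk i hi) x hx)

/-- the labels of the generators -/
def genIdx : List ℕ := [0, 2, 12, 22, 7, 9, 14, 21, 11, 4, 15]

theorem gen_chk : allLt (fun k => Nat.blt (genIdx.getD k 0) 23 && Nat.beq (cx (genIdx.getD k 0)) (2 ^ k)) 11 = true := by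
  decide

theorem hgen : ∀ a ∈ gl2, ∃ x : ZMod 23, nf2 gl2 (cx x.val) = a := by
  intro a ha
  obtain ⟨i, hi, rfl⟩ := List.getElem_of_mem ha
  have h := allLt_sound _ _ gen_chk i (by rw [gl2_length] at hi; exact hi)
  rw [Bool.and_eq_true] at h
  have h1 : genIdx.getD i 0 < 23 := by simpa [Nat.blt_eq] using h.1
  have h2 : cx (genIdx.getD i 0) = 2 ^ i := Nat.eq_of_beq_eq_true h.2
  refine ⟨((genIdx.getD i 0 : ℕ) : ZMod 23), ?_⟩
  rw [ZMod.val_natCast_of_lt h1, h2, nf2_two_pow gl2 i hi, List.getD_eq_getElem _ _ hi]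

theorem hsynd : ∀ m ∈ genMasks, synd cx (W m) = 0 := by
  decide +kernel

/-- the images of the labelled points, and the conjugates of the labelled elements -/
noncomputable def chkMoves (Wg : List ℕ) (f : ℕ → ℕ) : Bool :=
  allLt (fun x => Nat.beq (applyT 15 32768 (Wg.reverse.map tabf) (β x)) (β (f x)) &&
    chkRel (Wg ++ (catBits wl2 (cx x) ++ Wg.reverse)) (catBits wl2 (cx (f x)))) 23

theorem conj_of_chk (Wg : List ℕ) (f : ℕ → ℕ) (h : chkMoves Wg f = true) :
    ∀ x < 23, pt φ (eW gens Wg) (β x) = β (f x) ∧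
      eW gens Wg * nf2 gl2 (cx x) * (eW gens Wg)⁻¹ = nf2 gl2 (cx (f x)) := by
  intro x hx
  have h1 := allLt_sound _ _ h x hx
  rw [Bool.and_eq_true] at h1
  constructor
  · rw [(acts_eW 15 32768 gens tabf acts_gens _).pt _ (hβ x hx)]
    exact Nat.eq_of_beq_eq_true h1.1
  · have h2 := eW_eq_of_chk _ _ h1.2
    rw [eW_append, eW_append, eW_reverse] at h2
    unfold gl2
    rw [nf2_map_eW, nf2_map_eW, ← h2, mul_assoc]

end Cfsg.Agent.Lib.H17.Fi23Ext
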