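import Cfsg.Agent.Lib.H17.Fi23Ext.Lab

set_option autoImplicit false
set_option maxRecDepth 100000

/-! # An extension of M23 in Fi23: elements which act on the labels as generators of M23 (generated) -/

namespace Cfsg.Agent.Lib.H17.Fi23Ext

open Cfsg Cfsg.Spor Cfsg.Agent.Lib.H17.CosetCert Cfsg.Agent.Lib.H17.CoxGlue Cfsg.Agent.Lib.H17.Fi23Glue
  Cfsg.Agent.Lib.H17.Fi23Fi22 Cfsg.Agent.Lib.H17.Sgs Cfsg.Agent.Lib.H17.Sift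
  Cfsg.Agent.Lib.H17.PermActs Cfsg.Agent.Lib.H17.Pc2 Cfsg.Agent.Lib.H17.LocalActs
  Cfsg.Agent.Lib.H17.Fi23Out Cfsg.Agent.Lib.H17.Fi23Syl Cfsg.Agent.Lib.H17.ExtCore
  Cfsg.Agent.Lib.H28 Cfsg.Agent.Lib.H27 Cfsg.Agent.Lib.H27.OutM

attribute [local instance] finite_G

/-- the word of an element which moves the labels by the shift -/
def xsW : List ℕ := [2, 3, 4, 0, 1, 2, 3, 8, 9, 8, 7, 6, 5, 3, 4, 2, 3, 8, 0, 1, 2, 3, 4, 5, 6, 7, 3, 8, 9, 3, 4, 1, 2, 3, 8, 5, 6, 4, 5, 2, 3, 4, 1, 2, 3, 8, 9, 4, 5, 3, 4, 1, 2, 3, 8, 0, 1, 2, 3, 4, 5, 4, 5, 6, 5, 3, 4, 2, 3, 8, 9, 4, 3, 8, 2, 3, 4, 1, 2, 3, 8, 0, 1, 2, 3, 4, 2, 3, 4, 5, 6, 5, 4, 8, 1, 2, 0, 8, 3, 4, 5, 6, 5, 4, 3, 8, 0, 1, 0, 8, 9, 8, 3, 0, 1, 0, 2, 3, 4, 5, 6, 5, 4, 3, 2, 0, 1, 0, 3, 1, 2, 1, 3, 8, 9, 8, 2, 3, 4, 5, 6, 5, 4,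 3, 2, 8, 9, 8, 1, 2, 1, 8, 3, 4, 5, 6, 5, 4, 3, 8, 1, 2, 1, 3, 8, 9, 8, 3, 1, 2, 1, 8, 3, 4, 5, 6, 5, 4, 3, 8, 1, 2, 1]

/-- the word of an element which moves the labels by the second generator -/
def xdW : List ℕ := [3, 4, 0, 1, 2, 3, 8, 6, 4, 5, 2, 3, 4, 1, 2, 3, 8, 9, 6, 5, 4, 1, 2, 3, 8, 0, 1, 2, 3, 4, 5, 8, 9, 3, 8, 4, 3, 2, 3, 4, 5, 6, 5, 4, 3, 8, 9, 2, 3, 4, 1, 2, 3, 8, 0, 1, 2, 3, 5, 6, 5, 4, 2, 9, 2, 3, 4, 5, 6, 5, 4, 3, 2, 0, 1, 0, 3, 1, 2, 1, 8, 9, 8, 0, 1, 0, 2, 3, 4, 5, 6, 5, 4, 3, 2, 0, 1, 0, 3, 1, 2, 1, 3, 8, 9, 8, 2, 3, 4, 5, 6, 5, 4, 3, 2, 8, 9, 8, 1, 2, 1, 8, 3, 4, 5, 6, 5, 4, 3, 8, 1, 2, 1]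

/-- the word of an element which moves the labels by the third generator -/
def xuW : List ℕ := [3, 8, 6, 4, 5, 3, 4, 2, 3, 8, 9, 6, 5, 4, 1, 2, 3, 8, 0, 1, 2, 3, 4, 5, 9, 1, 2, 3, 8, 4, 3, 1, 2, 9, 4, 5, 6, 5, 4, 3, 8, 9, 2, 3, 4, 1, 2, 3, 8, 0, 1, 2, 3, 4, 1, 2, 3, 8, 2, 0, 8, 9, 8, 3]

theorem xs_chk : chkMoves xsW (evalPt sw) = true := by decide +kernel

theorem xd_chk : chkMoves xdW (evalPt dw) = true := by decide +kernel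

theorem xu_chk : chkMoves xuW (evalPt uw) = true := by decide +kernel

theorem hs : ∃ g, Moves φ β (fun k => nf2 gl2 (cx k)) g (wordPerm sw) :=
  ⟨eW gens xsW, moves_of_word (tt := fun k => nf2 gl2 (cx k)) _ sw (by decide) (conj_of_chk xsW _ xs_chk)⟩

theorem hd : ∃ g, Moves φ β (fun k => nf2 gl2 (cx k)) g (wordPerm dw) :=
  ⟨eW gens xdW, moves_of_word (tt := fun k => nf2 gl2 (cx k)) _ dw (by decide) (conj_of_chk xdW _ xd_chk)⟩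

theorem hu : ∃ g, Moves φ β (fun k => nf2 gl2 (cx k)) g (wordPerm uw) :=
  ⟨eW gens xuW, moves_of_word (tt := fun k => nf2 gl2 (cx k)) _ uw (by decide) (conj_of_chk xuW _ xu_chk)⟩

end Cfsg.Agent.Lib.H17.Fi23Ext
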