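import Cfsg.Agent.Lib.H17.Fi23Ext.Q8Tab

set_option autoImplicit false
set_option maxRecDepth 100000

/-! # An extension of M23 in Fi23: no lifts of the generators of the quaternion group generate a complement, part 0 (generated) -/

namespace Cfsg.Agent.Lib.H17.Fi23Ext

open Cfsg.Spor Cfsg.Agent.Lib.H17.CosetCert Cfsg.Agent.Lib.H17.CoxGlue Cfsg.Agent.Lib.H17.Fi23Glue
  Cfsg.Agent.Lib.H17.Fi23Fi22 Cfsg.Agent.Lib.H17.Sgs Cfsg.Agent.Lib.H17.Sift
  Cfsg.Agent.Lib.H17.PermActs Cfsg.Agent.Lib.H17.Pc2 Cfsg.Agent.Lib.H17.LocalActs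
  Cfsg.Agent.Lib.H17.Fi23Out Cfsg.Agent.Lib.H17.Fi23Syl

attribute [local instance] finite_G

theorem q8sw0 : allLt (fun u1 => q8row (0 + u1)) 512 = true := by
  decide +kernel

end Cfsg.Agent.Lib.H17.Fi23Ext
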