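import Cfsg.Agent.Lib.H17.Fi23Ext.Lab
import Cfsg.Agent.Lib.H17.Fi23Ext.Q8Sw0
import Cfsg.Agent.Lib.H17.Fi23Ext.Q8Sw1
import Cfsg.Agent.Lib.H17.Fi23Ext.Q8Sw2
import Cfsg.Agent.Lib.H17.Fi23Ext.Q8Sw3

set_option autoImplicit false
set_option maxRecDepth 100000

/-! # An extension of M23 in Fi23: a quaternion subgroup of M23 does not lift -/

namespace Cfsg.Agent.Lib.H17.Fi23Ext

open Cfsg Cfsg.Spor Cfsg.Agent.Lib.H17.CosetCert Cfsg.Agent.Lib.H17.CoxGlue Cfsg.Agent.Lib.H17.Fi23Glue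
  Cfsg.Agent.Lib.H17.Fi23Fi22 Cfsg.Agent.Lib.H17.Sgs Cfsg.Agent.Lib.H17.Sift
  Cfsg.Agent.Lib.H17.PermActs Cfsg.Agent.Lib.H17.Pc2 Cfsg.Agent.Lib.H17.LocalActs
  Cfsg.Agent.Lib.H17.Fi23Out Cfsg.Agent.Lib.H17.Fi23Syl Cfsg.Agent.Lib.H17.ExtCore

attribute [local instance] finite_G

theorem nf2_split' (e1 u : ℕ) (h1 : e1 < 128) :
    nf2 (gl1 ++ gl2) (e1 + 128 * u) = nf2 gl1 e1 * nf2 gl2 u := by
  have h128 : (2 : ℕ) ^ 7 = 128 := by norm_num
  have := nf2_append gl1 gl2 e1 u (by rw [gl1_length, h128]; exact h1)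
  rw [gl1_length, h128] at this
  exact this

theorem nf2_gl1_one : nf2 gl1 1 = eW gens w0 := by
  have : gl1 = eW gens w0 :: (wl1.tail.map (eW gens)) := rfl
  rw [this, nf2_cons]
  norm_num [nf2_zero]

theorem nf2_gl1_four : nf2 gl1 4 = eW gens w2 := by
  have : gl1 = eW gens w0 :: eW gens w1 :: eW gens w2 :: (wl1.tail.tail.tail.map (eW gens)) := rfl
  rw [this, nf2_cons, nf2_cons, nf2_cons]
  norm_num [nf2_zero]

theorem q8row_all : ∀ u1 < 2048, q8row u1 = true := by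
  intro u1 h
  rcases lt_or_ge u1 512 with h0 | h0
  · have := allLt_sound _ _ q8sw0 u1 h0
    rwa [Nat.zero_add] at this
  rcases lt_or_ge u1 1024 with h1 | h1
  · have := allLt_sound _ _ q8sw1 (u1 - 512) (by omega)
    have e : 512 + (u1 - 512) = u1 := by omega
    rwa [e] at this
  rcases lt_or_ge u1 1536 with h2 | h2
  · have := allLt_sound _ _ q8sw2 (u1 - 1024) (by omega)
    have e : 1024 + (u1 - 1024) = u1 := by omega
    rwa [e] at this
  · have := allLt_sound _ _ q8sw3 (u1 - 1536) (by omega)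
    have e : 1536 + (u1 - 1536) = u1 := by omega
    rwa [e] at this

/-- no lifts of the two generators of the quaternion group satisfy its relations -/
theorem hq8 : ∀ u1 < 2 ^ 11, ∀ u2 < 2 ^ 11,
    (eW gens w0 * nf2 gl2 u1) * (eW gens w0 * nf2 gl2 u1) =
      (eW gens w2 * nf2 gl2 u2) * (eW gens w2 * nf2 gl2 u2) →
    (eW gens w0 * nf2 gl2 u1) * (eW gens w2 * nf2 gl2 u2) * (eW gens w0 * nf2 gl2 u1)⁻¹ *
      (eW gens w2 * nf2 gl2 u2) ≠ 1 := by
  intro u1 hu1 u2 hu2 heq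
  have h2048 : (2 : ℕ) ^ 11 = 2048 := by norm_num
  rw [h2048] at hu1 hu2
  rw [← nf2_gl1_one, ← nf2_gl1_four, ← nf2_split' 1 u1 (by norm_num),
    ← nf2_split' 4 u2 (by norm_num)] at heq ⊢
  have hI := lacts_nf2 hP _ As hL (1 + 128 * u1)
  have hJ := lacts_nf2 hP _ As hL (4 + 128 * u2)
  have hIi := lacts_nf2_inv hP _ AIs hLI (1 + 128 * u1)
  have hII := hI.mul hP hI
  have hJJ := hJ.mul hP hJ
  rw [heq] at hII
  have huniq := LActs.unique hPinj hII hJJ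
  have hrow := q8row_all u1 hu1
  rw [q8row_eq] at hrow
  have h := allLt_sound _ _ hrow u2 hu2
  have htb := allLt_sound _ _ tb_chk u2 hu2
  simp only [Bool.and_eq_true] at htb
  obtain ⟨⟨t0, t1⟩, t2⟩ := htb
  have e0 : lk 10 1024 TB0 u2 = sq2 (1 + 128 * u1) 1 := by
    rw [Nat.eq_of_beq_eq_true t0]
    exact (huniq 1 (by norm_num)).symm
  have e1 : lk 10 1024 TB1 u2 = sq2 (1 + 128 * u1) 16 := by
    rw [Nat.eq_of_beq_eq_true t1]
    exact (huniq 16 (by norm_num)).symm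
  have e2 : lk 10 1024 TB2 u2 = sq2 (1 + 128 * u1) 2 := by
    rw [Nat.eq_of_beq_eq_true t2]
    exact (huniq 2 (by norm_num)).symm
  rw [e0, e1, e2, beq_self', beq_self', beq_self', cond_true, cond_true, cond_true] at h
  have hne : cmF (1 + 128 * u1) (4 + 128 * u2) 11 ≠ 11 := by
    intro hc
    rw [hc, beq_self'] at h
    exact absurd h (by simp)
  have hc := ((hI.mul hP hJ).mul hP hIi).mul hP hJ
  exact LActs.ne_one hPinj hc 11 (by norm_num) hne

end Cfsg.Agent.Lib.H17.Fi23Ext
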