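import Cfsg.Agent.Lib.H17.Fi23Ext.Lab

set_option autoImplicit false
set_option maxRecDepth 100000

/-! # An extension of M23 in Fi23: two elements which act on the labels as generators of a quaternion group (generated) -/

namespace Cfsg.Agent.Lib.H17.Fi23Ext

open Cfsg Cfsg.Spor Cfsg.Agent.Lib.H17.CosetCert Cfsg.Agent.Lib.H17.CoxGlue Cfsg.Agent.Lib.H17.Fi23Glue
  Cfsg.Agent.Lib.H17.Fi23Fi22 Cfsg.Agent.Lib.H17.Sgs Cfsg.Agent.Lib.H17.Sift
  Cfsg.Agent.Lib.H17.PermActs Cfsg.Agent.Lib.H17.Pc2 Cfsg.Agent.Lib.H17.LocalActs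
  Cfsg.Agent.Lib.H17.Fi23Out Cfsg.Agent.Lib.H17.Fi23Syl Cfsg.Agent.Lib.H17.ExtCore
  Cfsg.Agent.Lib.H28 Cfsg.Agent.Lib.H27 Cfsg.Agent.Lib.H27.OutM

attribute [local instance] finite_G

/-- the table of the first generator -/
def tI : List ℕ := [1, 19, 2, 11, 9, 5, 16, 20, 7, 4, 8, 6, 21, 13, 22, 17, 3, 15, 0, 18, 10, 14, 12, 23]

/-- the table of its inverse -/
def tIi : List ℕ := [18, 0, 2, 16, 9, 5, 11, 8, 10, 4, 20, 3, 22, 13, 21, 17, 6, 15, 19, 1, 7, 12, 14, 23]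

/-- the table of the second generator -/
def tJ : List ℕ := [22, 14, 2, 8, 17, 5, 20, 11, 6, 15, 16, 10, 1, 13, 18, 9, 7, 4, 12, 21, 3, 0, 19, 23]

/-- the table of its inverse -/
def tJi : List ℕ := [21, 12, 2, 20, 17, 5, 8, 16, 3, 15, 11, 7, 18, 13, 1, 9, 10, 4, 14, 22, 6, 19, 0, 23]

theorem tI_inv : ∀ k < 24, tI.getD k 0 < 24 ∧ tIi.getD (tI.getD k 0) 0 = k := by decide +kernel

theorem tIi_inv : ∀ k < 24, tIi.getD k 0 < 24 ∧ tI.getD (tIi.getD k 0) 0 = k := by decide +kernel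

theorem tJ_inv : ∀ k < 24, tJ.getD k 0 < 24 ∧ tJi.getD (tJ.getD k 0) 0 = k := by decide +kernel

theorem tJi_inv : ∀ k < 24, tJi.getD k 0 < 24 ∧ tJ.getD (tJi.getD k 0) 0 = k := by decide +kernel

/-- the first generator of the quaternion group -/
def σI : Equiv.Perm GolayPt := tabPerm tI tIi tI_inv tIi_inv

/-- the second generator of the quaternion group -/
def σJ : Equiv.Perm GolayPt := tabPerm tJ tJi tJ_inv tJi_inv

theorem i_chk : chkMoves w0 (fun x => tI.getD x 0) = true := by decide +kernel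

theorem j_chk : chkMoves w2 (fun x => tJ.getD x 0) = true := by decide +kernel

theorem hi : Moves φ β (fun k => nf2 gl2 (cx k)) (eW gens w0) σI :=
  moves_of_table (tt := fun k => nf2 gl2 (cx k)) _ tI tIi tI_inv tIi_inv (by decide +kernel) (by decide)
    (conj_of_chk w0 _ i_chk)

theorem hj : Moves φ β (fun k => nf2 gl2 (cx k)) (eW gens w2) σJ :=
  moves_of_table (tt := fun k => nf2 gl2 (cx k)) _ tJ tJi tJ_inv tJi_inv (by decide +kernel) (by decide)
    (conj_of_chk w2 _ j_chk)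

theorem hQ : σI * σI * (σJ * σJ)⁻¹ = 1 ∧ σI * σJ * σI⁻¹ * σJ = 1 := by
  apply quat_rel
  · exact tabPerm_mul_eq tI tIi tI tIi tJ tJi tJ tJi tI_inv tIi_inv tI_inv tIi_inv tJ_inv tJi_inv tJ_inv tJi_inv
      (by decide +kernel)
  · have h1 : σJ * σI = σI * σJ⁻¹ := by
      have h : σJ⁻¹ = tabPerm tJi tJ tJi_inv tJ_inv := by
        apply Equiv.ext
        intro p
        apply gIdx_injective
        rw [gIdx_tabPerm]
        exact gIdx_tabPerm_symm tJ tJi tJ_inv tJi_inv p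
      rw [h]
      exact tabPerm_mul_eq tJ tJi tI tIi tI tIi tJi tJ tJ_inv tJi_inv tI_inv tIi_inv tI_inv tIi_inv tJi_inv tJ_inv
        (by decide +kernel)
    rw [h1, mul_assoc, inv_mul_cancel, mul_one]

end Cfsg.Agent.Lib.H17.Fi23Ext
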