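import Cfsg.Agent.Lib.H17.Fi23Ext.ChainB
import Cfsg.Agent.Lib.H17.Fi23Ext.Lab

set_option autoImplicit false
set_option maxRecDepth 100000

/-! # An extension of M23 in Fi23: the elements which fix the 23 labelled points -/

namespace Cfsg.Agent.Lib.H17.Fi23Ext

open Cfsg Cfsg.Spor Cfsg.Agent.Lib.H17.CosetCert Cfsg.Agent.Lib.H17.CoxGlue Cfsg.Agent.Lib.H17.Fi23Glue
  Cfsg.Agent.Lib.H17.Fi23Fi22 Cfsg.Agent.Lib.H17.Sgs Cfsg.Agent.Lib.H17.Sift
  Cfsg.Agent.Lib.H17.PermActs Cfsg.Agent.Lib.H17.Pc2 Cfsg.Agent.Lib.H17.LocalActs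
  Cfsg.Agent.Lib.H17.Fi23Out Cfsg.Agent.Lib.H17.Fi23Syl Cfsg.Agent.Lib.H17.ExtCore

attribute [local instance] finite_G

/-- an element which fixes the 23 labelled points is a product of the 23 labelled elements: the
stabiliser of six of the points has the order of the group they generate -/
theorem hstab : ∀ g : G, (∀ x < 23, pt φ g (β x) = β x) → g ∈ Subgroup.closure {x | x ∈ gl2} := by
  have hpc : PcOK2 gl2 := Cfsg.Agent.Lib.H17.SylEA.pcOK2_comm gl2 sqC commC
  have hcard : Nat.card (Subgroup.closure {x | x ∈ gl2}) = 2048 := by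
    rw [Cfsg.Agent.Lib.H17.SylEA.card_closure gl2 hpc gl2_inj, gl2_length]
    norm_num
  have hmem : ∀ g : G, (∀ x < 23, pt φ g (β x) = β x) →
      g ∈ stabL φ ([1611, 190, 174, 106, 52, 0] : List ℕ) := by
    intro g hg
    rw [mem_stabL_iff_pt]
    intro c hc _
    simp only [List.mem_cons, List.not_mem_nil, or_false] at hc
    rcases hc with rfl | rfl | rfl | rfl | rfl | rfl
    · exact hg 14 (by norm_num)
    · exact hg 7 (by norm_num)
    · exact hg 22 (by norm_num)
    · exact hg 12 (by norm_num)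
    · exact hg 2 (by norm_num)
    · exact hg 0 (by norm_num)
  have hle : Subgroup.closure {x | x ∈ gl2} ≤ stabL φ ([1611, 190, 174, 106, 52, 0] : List ℕ) := by
    rw [Subgroup.closure_le]
    intro a ha
    exact hmem a (hfix a ha)
  have heq := Subgroup.eq_of_le_of_card_ge hle (by rw [hcard, bcards.2.2.2.2.2.1])
  intro g hg
  rw [heq]
  exact hmem g hg

end Cfsg.Agent.Lib.H17.Fi23Ext
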