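import Cfsg.Agent.Lib.H17.Fi23Ext.Lifts
import Cfsg.Agent.Lib.H17.Fi23Ext.Q8Gens
import Cfsg.Agent.Lib.H17.Fi23Ext.Q8
import Cfsg.Agent.Lib.H17.Fi23Ext.Stab

set_option autoImplicit false
set_option maxRecDepth 100000

/-! # An extension of M23 in Fi23 by the Golay cocode module which does not split

In the Fischer group `Fi23`, 23 commuting transpositions generate an elementary abelian subgroup of
order `2 ^ 11`; the elements which permute them, and the 23 points they are, as the group `M23`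
permutes its 23 points form an extension of `M23` by this subgroup.  The relations between the 23
transpositions are the words of the Golay code.  A quaternion subgroup of `M23` does not lift to
the extension, so the extension does not split. -/

namespace Cfsg.Agent.Lib.H17.Fi23Ext

open Cfsg Cfsg.Spor Cfsg.Agent.Lib.H17.CosetCert Cfsg.Agent.Lib.H17.CoxGlue Cfsg.Agent.Lib.H17.Fi23Glue
  Cfsg.Agent.Lib.H17.Fi23Fi22 Cfsg.Agent.Lib.H17.Sgs Cfsg.Agent.Lib.H17.Sift
  Cfsg.Agent.Lib.H17.PermActs Cfsg.Agent.Lib.H17.Pc2 Cfsg.Agent.Lib.H17.LocalActs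
  Cfsg.Agent.Lib.H17.Fi23Out Cfsg.Agent.Lib.H17.Fi23Syl Cfsg.Agent.Lib.H17.ExtCore

attribute [local instance] finite_G

theorem exists_ext :
    ∃ (E : Type) (_ : Group E) (_ : Finite E) (N : Subgroup E) (_ : N.Normal)
      (φ : E ⧸ N ≃* ↥Cfsg.Spor.M23) (θ : (Cfsg.GolayPt → ZMod 2) →+ Additive ↥N),
      Function.Surjective θ ∧
      (∀ w : Cfsg.GolayPt → ZMod 2, θ w = 0 ↔ (w ∈ Cfsg.golayCode ∨ w + Pi.single none 1 ∈ Cfsg.golayCode)) ∧
      (∀ (g : E) (w : Cfsg.GolayPt → ZMod 2),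
        ((θ (w ∘ ⇑(((φ (QuotientGroup.mk g) : ↥Cfsg.Spor.M23) : Equiv.Perm Cfsg.GolayPt)⁻¹))).toMul : E)
          = g * ((θ w).toMul : E) * g⁻¹) ∧
      ∀ H : Subgroup E, H ⊓ N = ⊥ → H ⊔ N ≠ ⊤ :=
  Cfsg.Agent.Lib.H17.ExtCore.main (φ := φ) (β := β) gl2 cx hβ hβinj sqC commC gl2_length gl2_inj hfix hstab
    hs hd hu hsynd hgen (eW gens w0) (eW gens w2) σI σJ hi hj hQ.1 hQ.2 hq8

end Cfsg.Agent.Lib.H17.Fi23Ext
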